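import Groth.Agent.TowerLib.Alg
import Groth.Agent.S0415
import Mathlib

/-! Towers of elementary extensions and universal homeomorphisms. -/

set_option autoImplicit false
universe u

open CategoryTheory AlgebraicGeometry

namespace TowerLib

variable {A B : Type u} [CommRing A] [CommRing B] [Algebra A B]

/-- A list is a tower of `P`-steps. -/
def Valid (A : Type u) {B : Type u} [CommRing A] [CommRing B] [Algebra A B]
    (P : Set B → B → Prop) (l : List B) : Prop :=
  ∀ (i : ℕ) (h : i < l.length), P (Algebra.adjoin A {b : B | b ∈ l.take i} : Set B) l[i]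

/-- The predicate depends monotonically on finitely many elements. -/
def Finitary (P : Set B → B → Prop) : Prop :=
  ∀ (T : Set B) b, P T b → ∃ c ∈ T, ∃ d ∈ T, ∀ T' : Set B, c ∈ T' → d ∈ T' → P T' b

theorem Finitary.mono {P : Set B → B → Prop} (hP : Finitary P) {T T' : Set B} (hT : T ⊆ T')
    {b : B} (h : P T b) : P T' b := by
  obtain ⟨c, hc, d, hd, h'⟩ := hP T b h
  exact h' T' (hT hc) (hT hd)

theorem finitary_sqCube : Finitary (SqCube (B := B)) :=
  fun _ _ ⟨h2, h3⟩ ↦ ⟨_, h2, _, h3, fun _ h h' ↦ ⟨h, h'⟩⟩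

theorem finitary_sqCubeOrPrime : Finitary (SqCubeOrPrime (B := B)) := by
  rintro T b (⟨h2, h3⟩ | ⟨p, hp, h1, h2⟩)
  · exact ⟨_, h2, _, h3, fun _ h h' ↦ Or.inl ⟨h, h'⟩⟩
  · exact ⟨_, h1, _, h2, fun _ h h' ↦ Or.inr ⟨p, hp, h, h'⟩⟩

theorem adjoin_take_mono (l : List B) (i : ℕ) :
    Algebra.adjoin A {b : B | b ∈ l.take i} ≤ Algebra.adjoin A {b : B | b ∈ l} :=
  Algebra.adjoin_mono fun _ h ↦ List.mem_of_mem_take h

theorem setOf_lt_eq_take (l : List B) (i : Fin l.length) :
    {b : B | ∃ j : Fin l.length, j < i ∧ b = l.get j} = {b : B | b ∈ l.take i} := by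
  ext b
  simp only [Set.mem_setOf_eq, List.mem_take_iff_getElem]
  constructor
  · rintro ⟨j, hj, rfl⟩
    exact ⟨j, by have := j.2; omega, rfl⟩
  · rintro ⟨j, hj, rfl⟩
    exact ⟨⟨j, by omega⟩, by show j < (i : ℕ); omega, rfl⟩

theorem valid_iff (P : Set B → B → Prop) (l : List B) :
    Valid A P l ↔ ∀ i : Fin l.length,
      P (Algebra.adjoin A {b : B | ∃ j : Fin l.length, j < i ∧ b = l.get j} : Set B) (l.get i) := by
  refine ⟨fun h i ↦ ?_, fun h i hi ↦ ?_⟩
  · rw [setOf_lt_eq_take]; exact h i i.2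
  · have := h ⟨i, hi⟩
    rwa [setOf_lt_eq_take] at this

theorem Valid.append {P : Set B → B → Prop} (hP : Finitary P) {l₁ l₂ : List B}
    (h₁ : Valid A P l₁) (h₂ : Valid A P l₂) : Valid A P (l₁ ++ l₂) := by
  intro i hi
  rcases lt_or_ge i l₁.length with h | h
  · rw [List.getElem_append_left h, List.take_append_of_le_length h.le]
    exact h₁ i h
  · rw [List.getElem_append_right h, List.take_append, List.take_of_length_le h]
    refine hP.mono (Algebra.adjoin_mono fun b hb ↦ ?_) (h₂ (i - l₁.length) ?_)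
    · exact List.mem_append_right _ hb
    · rw [List.length_append] at hi; omega

/-- Elements of the tops of towers. -/
def towerTop (A : Type u) {B : Type u} [CommRing A] [CommRing B] [Algebra A B]
    {P : Set B → B → Prop} (hP : Finitary P) : Subalgebra A B where
  carrier := {b | ∃ l, Valid A P l ∧ b ∈ Algebra.adjoin A {b : B | b ∈ l}}
  mul_mem' := by
    rintro a b ⟨l, hl, ha⟩ ⟨l', hl', hb⟩
    refine ⟨l ++ l', hl.append hP hl', mul_mem ?_ ?_⟩
    · exact Algebra.adjoin_mono (fun x hx ↦ List.mem_append_left _ hx) ha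
    · exact Algebra.adjoin_mono (fun x hx ↦ List.mem_append_right _ hx) hb
  add_mem' := by
    rintro a b ⟨l, hl, ha⟩ ⟨l', hl', hb⟩
    refine ⟨l ++ l', hl.append hP hl', add_mem ?_ ?_⟩
    · exact Algebra.adjoin_mono (fun x hx ↦ List.mem_append_left _ hx) ha
    · exact Algebra.adjoin_mono (fun x hx ↦ List.mem_append_right _ hx) hb
  algebraMap_mem' a := ⟨[], fun i hi ↦ absurd hi (Nat.not_lt_zero _), Subalgebra.algebraMap_mem _ a⟩

/-- Closedness under steps forces towers to exhaust `B`. -/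
theorem towerTop_eq_top {P : Set B → B → Prop} (hP : Finitary P)
    (hstep : ∀ C : Subalgebra A B, C ≠ ⊤ → ∃ y, y ∉ C ∧ P (C : Set B) y) : towerTop A hP = ⊤ := by
  by_contra hne
  obtain ⟨y, hy, hPy⟩ := hstep _ hne
  obtain ⟨c, ⟨l, hl, hc⟩, d, ⟨l', hl', hd⟩, hcd⟩ := hP _ _ hPy
  refine hy ⟨l ++ l' ++ [y], ?_, Algebra.subset_adjoin (by simp)⟩
  intro i hi
  rcases lt_or_ge i (l ++ l').length with h | h
  · rw [List.getElem_append_left h, List.take_append_of_le_length h.le]
    exact hl.append hP hl' i h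
  · have hieq : i = (l ++ l').length := by
      simp only [List.length_append, List.length_singleton] at hi h ⊢; omega
    subst hieq
    rw [List.getElem_append_right h, List.take_left]
    simp only [Nat.sub_self, List.getElem_cons_zero]
    exact hcd _ (Algebra.adjoin_mono (fun x hx ↦ List.mem_append_left _ hx) hc)
      (Algebra.adjoin_mono (fun x hx ↦ List.mem_append_right _ hx) hd)

theorem exists_valid {P : Set B → B → Prop} (hP : Finitary P)
    (hstep : ∀ C : Subalgebra A B, C ≠ ⊤ → ∃ y, y ∉ C ∧ P (C : Set B) y) (E : Finset B) :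
    ∃ l : List B, (↑E : Set B) ⊆ Algebra.adjoin A {b : B | b ∈ l} ∧ Valid A P l := by
  classical
  induction E using Finset.induction with
  | empty => exact ⟨[], by simp, fun i hi ↦ absurd hi (Nat.not_lt_zero _)⟩
  | @insert a s ha ih =>
    obtain ⟨l, hl, hlv⟩ := ih
    obtain ⟨l', hl', ha'⟩ : a ∈ towerTop A hP := towerTop_eq_top hP hstep ▸ Algebra.mem_top
    refine ⟨l ++ l', ?_, hlv.append hP hl'⟩
    rw [Finset.coe_insert, Set.insert_subset_iff]
    exact ⟨Algebra.adjoin_mono (fun x hx ↦ List.mem_append_right _ hx) ha',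
      hl.trans (Algebra.adjoin_mono fun x hx ↦ List.mem_append_left _ hx)⟩

/-- A subalgebra closed under steps contains all towers. -/
theorem eq_top_of_towers {P : Set B → B → Prop} (hP : Finitary P)
    (h : ∀ E : Finset B, ∃ l : List B, (↑E : Set B) ⊆ Algebra.adjoin A {b : B | b ∈ l} ∧
      Valid A P l)
    (C : Subalgebra A B) (hC : ∀ b, P (C : Set B) b → b ∈ C) : C = ⊤ := by
  refine eq_top_iff.mpr fun b _ ↦ ?_
  obtain ⟨l, hb, hl⟩ := h {b}
  suffices ∀ x ∈ l, x ∈ C from Algebra.adjoin_le this (hb (by simp))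
  suffices ∀ (i : ℕ) (h : i < l.length), l[i] ∈ C by
    intro x hx
    obtain ⟨i, hi, rfl⟩ := List.mem_iff_getElem.mp hx
    exact this i hi
  intro i
  induction i using Nat.strong_induction_on with
  | _ i ih =>
    intro hi
    refine hC _ (hP.mono ?_ (hl i hi))
    refine Algebra.adjoin_le fun x hx ↦ ?_
    obtain ⟨j, hj, rfl⟩ := List.mem_take_iff_getElem.mp hx
    exact ih j (by omega) _

theorem exists_lift_field {R T : Type u} [CommRing R] [CommRing T] [Algebra R T]
    [Algebra.IsIntegral R T] (hinj : Function.Injective (algebraMap R T)) {L : Type u} [Field L]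
    [IsAlgClosed L] (χ : R →+* L) : ∃ χ' : T →+* L, ∀ x, χ' (algebraMap R T x) = χ x := by
  let P := RingHom.ker χ
  haveI : P.IsPrime := RingHom.ker_isPrime χ
  obtain ⟨Q, -, hQ, hQP⟩ := Ideal.exists_ideal_over_prime_of_isIntegral P (⊥ : Ideal T)
    (fun a ha ↦ by
      rw [hinj (show algebraMap R T a = algebraMap R T 0 by simpa using ha)]
      exact P.zero_mem)
  haveI : Q.LiesOver P := ⟨hQP.symm⟩
  let _ := Localization.AtPrime.algebraOfLiesOver P Q
  have : Localization.AtPrime.IsLiesOverAlgebra P Q := ⟨rfl⟩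
  have : Algebra.IsAlgebraic P.ResidueField Q.ResidueField := inferInstance
  let g : P.ResidueField →+* L := Ideal.ResidueField.lift P χ le_rfl fun x hx ↦
    IsUnit.mk0 _ fun h0 ↦ hx (RingHom.mem_ker.mpr h0)
  let _ : Algebra P.ResidueField L := g.toAlgebra
  let σ : Q.ResidueField →ₐ[P.ResidueField] L := IsAlgClosed.lift
  refine ⟨σ.toRingHom.comp (algebraMap T Q.ResidueField), fun x ↦ ?_⟩
  show σ (algebraMap T Q.ResidueField (algebraMap R T x)) = _
  rw [← IsScalarTower.algebraMap_apply R T, IsScalarTower.algebraMap_apply R P.ResidueField,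
    AlgHom.commutes]
  exact Ideal.ResidueField.lift_algebraMap ..

section Forward

variable [Algebra.IsIntegral A B]

theorem homInj_subalgebra (h : HomInj A B) (C : Subalgebra A B) (S : Subalgebra C B) :
    HomInj C S := by
  intro K _ φ ψ hφψ
  let L := AlgebraicClosure K
  have hint : Algebra.IsIntegral C B := Algebra.IsIntegral.tower_top A
  have : Algebra.IsIntegral S B := Algebra.IsIntegral.tower_top C
  have hinj : Function.Injective (algebraMap S B) := Subtype.val_injective
  have ext := fun χ : S →+* K ↦ exists_lift_field hinj ((algebraMap K L).comp χ)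
  obtain ⟨φ', hφ'⟩ := ext φ
  obtain ⟨ψ', hψ'⟩ := ext ψ
  have := h L φ' ψ' (RingHom.ext fun a ↦ by
    have h1 := RingHom.congr_fun hφψ (algebraMap A C a)
    show φ' (algebraMap A B a) = ψ' (algebraMap A B a)
    have e : algebraMap A B a = ((algebraMap C S (algebraMap A C a) : S) : B) := rfl
    rw [e]
    exact ((hφ' (algebraMap C S (algebraMap A C a))).trans
      (congr_arg (algebraMap K L) h1)).trans (hψ' (algebraMap C S (algebraMap A C a))).symm)
  refine RingHom.ext fun x ↦ (algebraMap K L).injective ?_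
  exact (hφ' x).symm.trans ((RingHom.congr_fun this _).trans (hψ' x))

theorem resSurj_subalgebra (h : ResSurj A B) (C : Subalgebra A B) (S : Subalgebra C B) :
    ResSurj C S := by
  intro q _ b
  have hint : Algebra.IsIntegral C B := Algebra.IsIntegral.tower_top A
  have : Algebra.IsIntegral S B := Algebra.IsIntegral.tower_top C
  obtain ⟨Q, -, hQ, hQP⟩ := Ideal.exists_ideal_over_prime_of_isIntegral q (⊥ : Ideal B)
    (fun a ha ↦ by
      rw [show a = 0 from Subtype.ext (by simpa [Subalgebra.algebraMap_def] using ha)]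
      exact q.zero_mem)
  obtain ⟨a, s, hs, hsa⟩ := h Q hQ b
  refine ⟨algebraMap A C a, algebraMap A C s, ?_, ?_⟩
  · rw [← hQP, Ideal.mem_comap]; exact hs
  · rw [← hQP, Ideal.mem_comap]; exact hsa

theorem exists_finite_subalgebra (C : Subalgebra A B) (hC : C ≠ ⊤) :
    ∃ S : Subalgebra C B, Module.Finite C S ∧ ¬Function.Surjective (algebraMap C S) ∧
      Function.Injective (algebraMap C S) := by
  obtain ⟨e, he⟩ : ∃ e, e ∉ C := by
    by_contra! hall
    exact hC (eq_top_iff.mpr fun x _ ↦ hall x)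
  have hint : Algebra.IsIntegral C B := Algebra.IsIntegral.tower_top A
  refine ⟨Algebra.adjoin C ({e} : Set B),
    Algebra.finite_adjoin_simple_of_isIntegral (Algebra.IsIntegral.isIntegral e), fun hs ↦ ?_,
    fun a b hab ↦ Subtype.ext (congr_arg Subtype.val hab :)⟩
  obtain ⟨c, hc⟩ := hs ⟨e, Algebra.subset_adjoin rfl⟩
  refine he ?_
  have e1 : (c : B) = e := congr_arg Subtype.val hc
  exact e1 ▸ c.2

theorem coe_mem_of_mem_range {C : Subalgebra A B} {S : Subalgebra C B} {z : S}
    (h : z ∈ (algebraMap C S).range) : (z : B) ∈ (C : Set B) := by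
  obtain ⟨c, rfl⟩ := h
  exact c.2

theorem exists_step_sqCube (h : HomInj A B) (hr : ResSurj A B) (C : Subalgebra A B) (hC : C ≠ ⊤) :
    ∃ y, y ∉ C ∧ SqCube (C : Set B) y := by
  obtain ⟨S, hfin, hns, hinj⟩ := exists_finite_subalgebra C hC
  obtain ⟨y, hy, h2, h3⟩ := TowerLib.exists_sqCube (homInj_subalgebra h C S)
    (resSurj_subalgebra hr C S) hns hinj
  refine ⟨y.1, fun hyC ↦ hy ⟨⟨y.1, hyC⟩, Subtype.ext rfl⟩, ?_, ?_⟩
  · simpa using coe_mem_of_mem_range h2
  · simpa using coe_mem_of_mem_range h3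

theorem exists_step_sqCubeOrPrime (h : HomInj A B) (C : Subalgebra A B) (hC : C ≠ ⊤) :
    ∃ y, y ∉ C ∧ SqCubeOrPrime (C : Set B) y := by
  obtain ⟨S, hfin, hns, hinj⟩ := exists_finite_subalgebra C hC
  obtain ⟨y, hy, ⟨h2, h3⟩ | ⟨p, hp, h2, h3⟩⟩ :=
    TowerLib.exists_sqCubeOrPrime (homInj_subalgebra h C S) hns hinj
  · exact ⟨y.1, fun hyC ↦ hy ⟨⟨y.1, hyC⟩, Subtype.ext rfl⟩, Or.inl
      ⟨by simpa using coe_mem_of_mem_range h2, by simpa using coe_mem_of_mem_range h3⟩⟩
  · exact ⟨y.1, fun hyC ↦ hy ⟨⟨y.1, hyC⟩, Subtype.ext rfl⟩, Or.inr ⟨p, hp,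
      by simpa using coe_mem_of_mem_range h2, by simpa using coe_mem_of_mem_range h3⟩⟩

end Forward

section Backward

theorem isIntegral_of_towers {P : Set B → B → Prop} (hP : Finitary P)
    (h : ∀ E : Finset B, ∃ l : List B, (↑E : Set B) ⊆ Algebra.adjoin A {b : B | b ∈ l} ∧
      Valid A P l)
    (hpow : ∀ T b, P T b → ∃ n : ℕ, 0 < n ∧ b ^ n ∈ T) : Algebra.IsIntegral A B := by
  refine ⟨fun x ↦ ?_⟩
  have := eq_top_of_towers hP h (integralClosure A B) fun b hb ↦ by
    obtain ⟨n, hn, hbn⟩ := hpow _ b hb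
    exact IsIntegral.of_pow hn hbn
  exact (this ▸ Algebra.mem_top : x ∈ integralClosure A B)

theorem sqCubeOrPrime_pow {T : Set B} {b : B} (h : SqCubeOrPrime T b) :
    ∃ n : ℕ, 0 < n ∧ b ^ n ∈ T := by
  rcases h with ⟨h2, -⟩ | ⟨p, hp, -, h'⟩
  · exact ⟨2, two_pos, h2⟩
  · exact ⟨p, hp.pos, h'⟩

theorem homInj_of_towers
    (h : ∀ E : Finset B, ∃ l : List B, (↑E : Set B) ⊆ Algebra.adjoin A {b : B | b ∈ l} ∧
      Valid A SqCubeOrPrime l) : HomInj A B := by
  intro K _ φ ψ hφψ
  let _ : Algebra A K := (φ.comp (algebraMap A B)).toAlgebra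
  let φa : B →ₐ[A] K := { φ with commutes' := fun a ↦ rfl }
  let ψa : B →ₐ[A] K := { ψ with commutes' := fun a ↦ (RingHom.congr_fun hφψ a).symm }
  have := eq_top_of_towers finitary_sqCubeOrPrime h (AlgHom.equalizer φa ψa) fun b hb ↦ by
    show φ b = ψ b
    rcases hb with ⟨(h2 : φ (b ^ 2) = ψ (b ^ 2)), (h3 : φ (b ^ 3) = ψ (b ^ 3))⟩ |
      ⟨p, hp, (h1 : φ ((p : B) * b) = ψ ((p : B) * b)), (hp' : φ (b ^ p) = ψ (b ^ p))⟩
    · rw [map_pow, map_pow] at h2 h3
      by_cases h0 : φ b = 0
      · rw [h0] at h2 ⊢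
        exact (pow_eq_zero_iff two_ne_zero).mp (by rw [← h2]; ring) |>.symm
      · refine mul_left_cancel₀ (pow_ne_zero 2 h0) ?_
        rw [← pow_succ, h3, h2, ← pow_succ]
    · rw [map_mul, map_mul, map_natCast, map_natCast] at h1
      rw [map_pow, map_pow] at hp'
      by_cases h0 : (p : K) = 0
      · haveI : CharP K p := (CharP.charP_iff_prime_eq_zero hp).mpr h0
        haveI : Fact p.Prime := ⟨hp⟩
        exact frobenius_inj K p (by simpa [frobenius_def] using hp')
      · exact mul_left_cancel₀ h0 h1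
  exact RingHom.ext fun b ↦ (this ▸ Algebra.mem_top : b ∈ AlgHom.equalizer φa ψa)

theorem resSurj_of_towers
    (h : ∀ E : Finset B, ∃ l : List B, (↑E : Set B) ⊆ Algebra.adjoin A {b : B | b ∈ l} ∧
      Valid A SqCube l) : ResSurj A B := by
  intro q hq b
  let C : Subalgebra A B :=
    { carrier := {b | ∃ a s : A, algebraMap A B s ∉ q ∧ algebraMap A B s * b - algebraMap A B a ∈ q}
      mul_mem' := by
        rintro x y ⟨a, s, hs, hx⟩ ⟨c, t, ht, hy⟩
        refine ⟨a * c, s * t, by rw [map_mul]; exact hq.mul_notMem hs ht, ?_⟩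
        convert add_mem (q.mul_mem_left (algebraMap A B t * y) hx)
          (q.mul_mem_left (algebraMap A B a) hy) using 1
        simp only [map_mul]; ring
      add_mem' := by
        rintro x y ⟨a, s, hs, hx⟩ ⟨c, t, ht, hy⟩
        refine ⟨a * t + c * s, s * t, by rw [map_mul]; exact hq.mul_notMem hs ht, ?_⟩
        convert add_mem (q.mul_mem_left (algebraMap A B t) hx)
          (q.mul_mem_left (algebraMap A B s) hy) using 1
        simp only [map_mul, map_add]; ring
      algebraMap_mem' := fun r ↦ ⟨r, 1, by rw [map_one]; exact hq.one_notMem, by simp⟩ }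
  have := eq_top_of_towers finitary_sqCube h C fun x ⟨⟨a, s, hs, ha⟩, ⟨c, t, ht, hc⟩⟩ ↦ by
    by_cases hxq : x ∈ q
    · exact ⟨0, 1, by rw [map_one]; exact hq.one_notMem, by simpa using hxq⟩
    have haq : algebraMap A B a ∉ q := fun haq ↦ by
      refine hq.mul_notMem hs (fun h2 ↦ hxq (hq.mem_of_pow_mem 2 h2)) ?_
      simpa using add_mem ha haq
    refine ⟨s * c, t * a, by rw [map_mul]; exact hq.mul_notMem ht haq, ?_⟩
    convert add_mem (q.mul_mem_left (-(algebraMap A B t * x)) ha)
      (q.mul_mem_left (algebraMap A B s) hc) using 1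
    simp only [map_mul]; ring
  exact (this ▸ Algebra.mem_top : b ∈ C)

end Backward

section Translate

theorem homInj_iff_universallyInjective :
    UniversallyInjective (Spec.map (CommRingCat.ofHom (algebraMap A B))) ↔ HomInj A B := by
  rw [((tfae_universallyInjective _).out 0 1 :)]
  constructor
  · intro h K _ φ ψ hφψ
    have := h K (a₁ := Spec.map (CommRingCat.ofHom φ)) (a₂ := Spec.map (CommRingCat.ofHom ψ)) (by
      simp only [← Spec.map_comp, ← CommRingCat.ofHom_comp, hφψ])
    exact congr_arg CommRingCat.Hom.hom (Spec.map_inj.mp this)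
  · intro h K _ g₁ g₂ hg
    obtain ⟨φ, rfl⟩ := Spec.map_surjective g₁
    obtain ⟨ψ, rfl⟩ := Spec.map_surjective g₂
    simp only [← Spec.map_comp, Spec.map_inj] at hg
    exact congr_arg Spec.map (CommRingCat.hom_ext
      (h K φ.hom ψ.hom (congr_arg CommRingCat.Hom.hom hg)))

theorem surjective_of_integral_injective [Algebra.IsIntegral A B]
    (hinj : Function.Injective (algebraMap A B)) :
    Surjective (Spec.map (CommRingCat.ofHom (algebraMap A B))) := by
  refine ⟨fun p ↦ ?_⟩
  obtain ⟨Q, -, hQ, hQp⟩ := Ideal.exists_ideal_over_prime_of_isIntegral p.asIdeal (⊥ : Ideal B)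
    (fun a ha ↦ by
      rw [hinj (show algebraMap A B a = algebraMap A B 0 by simpa using ha)]
      exact zero_mem _)
  exact ⟨⟨Q, hQ⟩, PrimeSpectrum.ext hQp⟩

theorem residueFieldMap_surjective_iff :
    (∀ x : Spec (CommRingCat.of B), Function.Surjective
      ((Spec.map (CommRingCat.ofHom (algebraMap A B))).residueFieldMap x)) ↔ ResSurj A B := by
  let f := Spec.map (CommRingCat.ofHom (algebraMap A B))
  have key : ∀ (x : Spec (CommRingCat.of B)),
      CommRingCat.ofHom (algebraMap A (f x).asIdeal.ResidueField) ≫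
        (Scheme.Spec.residueFieldIso (CommRingCat.of A) (f x)).inv ≫ f.residueFieldMap x =
      CommRingCat.ofHom (algebraMap A B) ≫
        CommRingCat.ofHom (algebraMap B x.asIdeal.ResidueField) ≫
        (Scheme.Spec.residueFieldIso (CommRingCat.of B) x).inv := by
    intro x
    apply Spec.map_injective
    simp only [Spec.map_comp, Category.assoc]
    have e1 := Scheme.Spec.map_residueFieldIso_inv_eq_fromSpecResidueField (CommRingCat.of A) (f x)
    have e2 := Scheme.Spec.map_residueFieldIso_inv_eq_fromSpecResidueField (CommRingCat.of B) x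
    have e3 := Scheme.Hom.SpecMap_residueFieldMap_fromSpecResidueField f x
    exact (congr_arg (Spec.map (f.residueFieldMap x) ≫ ·) e1).trans
      (e3.trans ((congr_arg (· ≫ f) e2.symm).trans (Category.assoc _ _ _)))
  have hev : ∀ (x : Spec (CommRingCat.of B)) (a : A),
      f.residueFieldMap x ((Scheme.Spec.residueFieldIso (CommRingCat.of A) (f x)).inv
        (algebraMap A (f x).asIdeal.ResidueField a)) =
      (Scheme.Spec.residueFieldIso (CommRingCat.of B) x).inv
        (algebraMap B x.asIdeal.ResidueField (algebraMap A B a)) :=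
    fun x a ↦ RingHom.congr_fun (congr_arg CommRingCat.Hom.hom (key x)) a
  constructor
  · intro h q hq b
    let x : Spec (CommRingCat.of B) := ⟨q, hq⟩
    obtain ⟨z, hz⟩ := h x ((Scheme.Spec.residueFieldIso (CommRingCat.of B) x).inv
      (algebraMap B x.asIdeal.ResidueField b))
    obtain ⟨z, rfl⟩ : ∃ w, (Scheme.Spec.residueFieldIso (CommRingCat.of A) (f x)).inv w = z :=
      ⟨(Scheme.Spec.residueFieldIso (CommRingCat.of A) (f x)).hom z, by
        rw [← ConcreteCategory.comp_apply, Iso.hom_inv_id]; rfl⟩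
    obtain ⟨a, s, hs, rfl⟩ := IsFractionRing.div_surjective (A := A ⧸ (f x).asIdeal) z
    obtain ⟨a, rfl⟩ := Ideal.Quotient.mk_surjective a
    obtain ⟨s, rfl⟩ := Ideal.Quotient.mk_surjective s
    have hs' : s ∉ (f x).asIdeal := fun hsp ↦
      nonZeroDivisors.ne_zero hs (Ideal.Quotient.eq_zero_iff_mem.mpr hsp)
    refine ⟨a, s, hs', ?_⟩
    rw [map_div₀, map_div₀] at hz
    have hne : algebraMap A (f x).asIdeal.ResidueField s ≠ 0 := fun h0 ↦
      hs' (Ideal.algebraMap_residueField_eq_zero.mp h0)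
    have hne' : (Scheme.Spec.residueFieldIso (CommRingCat.of B) x).inv
        (algebraMap B x.asIdeal.ResidueField (algebraMap A B s)) ≠ 0 := by
      rw [← hev]
      exact (map_ne_zero_iff _ (RingHom.injective _)).mpr
        ((map_ne_zero_iff _ (RingHom.injective _)).mpr hne)
    have e1 := hev x a
    have e2 := hev x s
    rw [show algebraMap (A ⧸ (f x).asIdeal) (f x).asIdeal.ResidueField (Ideal.Quotient.mk _ a) =
      algebraMap A _ a from rfl, show algebraMap (A ⧸ (f x).asIdeal) (f x).asIdeal.ResidueField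
        (Ideal.Quotient.mk _ s) = algebraMap A _ s from rfl] at hz
    erw [e1, e2] at hz
    rw [div_eq_iff hne', ← map_mul, ← map_mul] at hz
    have hz' := RingHom.injective (Scheme.Spec.residueFieldIso (CommRingCat.of B) x).inv.hom hz
    rw [← Ideal.algebraMap_residueField_eq_zero (I := q), map_sub, map_mul, sub_eq_zero, hz',
      map_mul, mul_comm]
  · intro h x z
    obtain ⟨w, rfl⟩ : ∃ w, (Scheme.Spec.residueFieldIso (CommRingCat.of B) x).inv w = z :=
      ⟨(Scheme.Spec.residueFieldIso (CommRingCat.of B) x).hom z, by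
        rw [← ConcreteCategory.comp_apply, Iso.hom_inv_id]; rfl⟩
    have hmem : ∀ b : B, (Scheme.Spec.residueFieldIso (CommRingCat.of B) x).inv
        (algebraMap B x.asIdeal.ResidueField b) ∈ (f.residueFieldMap x).hom.fieldRange := by
      intro b
      obtain ⟨a, s, hs, hsa⟩ := h x.asIdeal inferInstance b
      have hne : algebraMap B x.asIdeal.ResidueField (algebraMap A B s) ≠ 0 := fun h0 ↦
        hs (Ideal.algebraMap_residueField_eq_zero.mp h0)
      have : algebraMap B x.asIdeal.ResidueField b =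
          algebraMap B x.asIdeal.ResidueField (algebraMap A B a) /
            algebraMap B x.asIdeal.ResidueField (algebraMap A B s) := by
        rw [eq_div_iff hne, ← sub_eq_zero, ← map_mul, ← map_sub, mul_comm,
          Ideal.algebraMap_residueField_eq_zero]
        exact hsa
      rw [this, map_div₀]
      exact div_mem ⟨_, hev x a⟩ ⟨_, hev x s⟩
    obtain ⟨b, t, ht, rfl⟩ := IsFractionRing.div_surjective (A := B ⧸ x.asIdeal) w
    obtain ⟨b, rfl⟩ := Ideal.Quotient.mk_surjective b
    obtain ⟨t, rfl⟩ := Ideal.Quotient.mk_surjective t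
    rw [map_div₀]
    exact div_mem (hmem b) (hmem t)

theorem isUnivHomeo_iff (hinj : Function.Injective (algebraMap A B)) :
    FlatMor.IsUnivHomeo (Spec.map (CommRingCat.ofHom (algebraMap A B))) ↔
      Algebra.IsIntegral A B ∧ HomInj A B := by
  rw [Groth.Agent.S0415.result, homInj_iff_universallyInjective, IsIntegralHom.SpecMap_iff,
    CommRingCat.hom_ofHom, algebraMap_isIntegral_iff]
  exact ⟨fun h ↦ ⟨h.1, h.2.1⟩, fun h ↦ ⟨h.1, h.2,
    have := h.1; surjective_of_integral_injective hinj⟩⟩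

end Translate

end TowerLib
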