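import Mathlib
import Groth.Prelude.Def_Formal2

/-! Towers of abelian groups: composites of transition maps. -/

universe u

open CategoryTheory Opposite

namespace Groth.Agent.TowerLib

variable (G : ℕ → Type u) [∀ n, AddCommGroup (G n)] (t : ∀ n, G (n + 1) →+ G n)

/-- The tower as a functor. -/
def tower : ℕᵒᵖ ⥤ AddCommGrpCat.{u} :=
  Functor.ofOpSequence (X := fun n => AddCommGrpCat.of (G n)) (fun n => AddCommGrpCat.ofHom (t n))

/-- The transition map from level `n` to level `i`. -/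
def T {i n : ℕ} (h : i ≤ n) : G n →+ G i := ((tower G t).map (homOfLE h).op).hom

theorem T_self (i : ℕ) (a : G i) : T G t (le_refl i) a = a := by
  simp only [T, homOfLE_refl, op_id, CategoryTheory.Functor.map_id]
  rfl

theorem T_trans {i j k : ℕ} (h : i ≤ j) (h' : j ≤ k) (a : G k) :
    T G t h (T G t h' a) = T G t (h.trans h') a := by
  simp only [T, ← homOfLE_comp h h', op_comp, CategoryTheory.Functor.map_comp]
  rfl

theorem T_succ (i : ℕ) (a : G (i + 1)) : T G t (Nat.le_succ i) a = t i a := by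
  simp only [T, tower, Functor.ofOpSequence_map_homOfLE_succ]
  rfl

theorem t_T {i n : ℕ} (h : i + 1 ≤ n) (a : G n) : t i (T G t h a) = T G t (i.le_succ.trans h) a := by
  rw [← T_succ G t, T_trans]

/-- The truncated series `∑_{i ≤ n < N} T_{n,i} y_n`. -/
def trunc (y : ∀ n, G n) (i N : ℕ) : G i :=
  ∑ n ∈ Finset.Ico i N, if h : i ≤ n then T G t h (y n) else 0

theorem trunc_sub (y : ∀ n, G n) {i N : ℕ} (h : i < N) :
    trunc G t y i N - t i (trunc G t y (i + 1) N) = y i := by
  rw [trunc, trunc, Finset.sum_eq_sum_Ico_succ_bot h, dif_pos le_rfl, T_self, map_sum, sub_eq_iff_eq_add,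
    add_left_cancel_iff]
  refine Finset.sum_congr rfl fun n hn => ?_
  rw [Finset.mem_Ico] at hn
  rw [dif_pos hn.1, dif_pos (by omega : i ≤ n), t_T]

theorem trunc_add (y : ∀ n, G n) {i M N : ℕ} (h : i ≤ M) (h' : M ≤ N) :
    trunc G t y i N - trunc G t y i M = ∑ n ∈ Finset.Ico M N, if h : i ≤ n then T G t h (y n) else 0 := by
  rw [trunc, trunc, ← Finset.sum_Ico_consecutive _ h h', add_sub_cancel_left]

theorem surjective_of_surjective_subtower (R : ∀ n, AddSubgroup (G n))
    (hR : ∀ n, ∀ a ∈ R n, ∃ b ∈ R (n + 1), t n b = a) (r : ∀ n, G n) (hr : ∀ n, r n ∈ R n) :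
    ∃ w : ∀ n, G n, ∀ n, w n - t n (w (n + 1)) = r n := by
  choose σ hσ hσt using hR
  let w : ∀ n, R n := fun n => Nat.rec (motive := fun n => R n) 0
    (fun n a => ⟨σ n (a.1 - r n) ((R n).sub_mem a.2 (hr n)), hσ n _ _⟩) n
  refine ⟨fun n => (w n).1, fun n => ?_⟩
  change (w n).1 - t n (σ n ((w n).1 - r n) _) = r n
  rw [hσt, sub_sub_cancel]

end Groth.Agent.TowerLib
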