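import Groth.Agent.TowerLib.Main
import Mathlib

/-! Universal homeomorphisms are limits of finitely presented ones. -/

set_option autoImplicit false
universe u

open CategoryTheory AlgebraicGeometry TensorProduct

namespace TowerLib

/-- Integral, uniquely liftable, and (if `r`) with trivial residue extensions. -/
def Good (r : Prop) (A D : Type u) [CommRing A] [CommRing D] [Algebra A D] : Prop :=
  Algebra.IsIntegral A D ∧ HomInj A D ∧ (r → ResSurj A D)

variable {A B : Type u} [CommRing A] [CommRing B] [Algebra A B] {r : Prop}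

theorem Good.trans {D E : Type u} [CommRing D] [CommRing E] [Algebra A D] [Algebra A E]
    [Algebra D E] [IsScalarTower A D E] (h : Good r A D) (h' : Good r D E) : Good r A E := by
  have := h.1
  have := h'.1
  refine ⟨Algebra.IsIntegral.trans D, fun K _ φ ψ e ↦ h'.2.1 K φ ψ (h.2.1 K _ _ ?_), fun hr q _ b ↦ ?_⟩
  · rw [RingHom.comp_assoc, RingHom.comp_assoc, ← IsScalarTower.algebraMap_eq, e]
  · obtain ⟨c, t, ht, hct⟩ := h'.2.2 hr q inferInstance b
    let p := q.comap (algebraMap D E)
    obtain ⟨a₁, s₁, hs₁, h₁⟩ := h.2.2 hr p inferInstance t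
    obtain ⟨a₂, s₂, hs₂, h₂⟩ := h.2.2 hr p inferInstance c
    have ha₁ : algebraMap A D a₁ ∉ p := fun ha ↦ by
      refine (inferInstance : p.IsPrime).mul_notMem hs₁ ht ?_
      simpa using add_mem h₁ ha
    refine ⟨s₁ * a₂, s₂ * a₁, ?_, ?_⟩
    · rw [IsScalarTower.algebraMap_apply A D E, map_mul, map_mul]
      exact (inferInstance : q.IsPrime).mul_notMem hs₂ ha₁
    · simp only [p, Ideal.mem_comap, map_sub, map_mul, ← IsScalarTower.algebraMap_apply A D E] at h₁ h₂
      convert add_mem (add_mem (q.mul_mem_left (-(algebraMap A E s₂ * b)) h₁)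
        (q.mul_mem_left (algebraMap A E s₁) h₂))
        (q.mul_mem_left (algebraMap A E s₁ * algebraMap A E s₂) hct) using 1
      simp only [map_mul]; ring

theorem Good.of_surjective {D E : Type u} [CommRing D] [CommRing E] [Algebra A D] [Algebra A E]
    (h : Good r A D) (f : D →ₐ[A] E) (hf : Function.Surjective f) : Good r A E := by
  refine ⟨⟨fun x ↦ ?_⟩, fun K _ φ ψ e ↦ ?_, fun hr q _ b ↦ ?_⟩
  · obtain ⟨y, rfl⟩ := hf x
    exact (h.1.isIntegral y).map f
  · have := h.2.1 K (φ.comp f.toRingHom) (ψ.comp f.toRingHom) (by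
      refine RingHom.ext fun a ↦ ?_
      show φ (f (algebraMap A D a)) = ψ (f (algebraMap A D a))
      rw [f.commutes]
      exact RingHom.congr_fun e a)
    exact RingHom.ext fun x ↦ by obtain ⟨y, rfl⟩ := hf x; exact RingHom.congr_fun this y
  · obtain ⟨y, rfl⟩ := hf b
    obtain ⟨a, s, hs, ha⟩ := h.2.2 hr (q.comap f) inferInstance y
    refine ⟨a, s, by simpa using hs, by simpa using ha⟩

theorem good_self (r : Prop) : Good r A A :=
  ⟨inferInstance, fun _ _ _ _ e ↦ by simpa using e,
    fun _ q _ b ↦ ⟨b, 1, by simpa using Ideal.IsPrime.one_notMem inferInstance, by simp⟩⟩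

theorem good_of_adjoin_singleton {D E : Type u} [CommRing D] [CommRing E] [Algebra D E] (x : E)
    (hx : Algebra.adjoin D {x} = ⊤)
    (hs : SqCubeOrPrime ((algebraMap D E).range : Set E) x)
    (hr : r → SqCube ((algebraMap D E).range : Set E) x) : Good r D E := by
  have hv : ∀ {P : Set E → E → Prop}, Finitary P → P ((algebraMap D E).range : Set E) x →
      ∀ F : Finset E, ∃ l : List E, (↑F : Set E) ⊆ Algebra.adjoin D {b : E | b ∈ l} ∧ Valid D P l := by
    intro P hP hPx F
    refine ⟨[x], fun y _ ↦ ?_, fun i hi ↦ ?_⟩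
    · simp only [List.mem_singleton, Set.setOf_eq_eq_singleton, hx]
      exact Algebra.mem_top
    · obtain rfl : i = 0 := by simp only [List.length_singleton] at hi; omega
      refine hP.mono ?_ hPx
      rintro _ ⟨d, rfl⟩
      exact Subalgebra.algebraMap_mem _ d
  exact ⟨isIntegral_of_towers finitary_sqCubeOrPrime (hv finitary_sqCubeOrPrime hs)
    (fun _ _ ↦ sqCubeOrPrime_pow), homInj_of_towers (hv finitary_sqCubeOrPrime hs),
    fun h ↦ resSurj_of_towers (hv finitary_sqCube (hr h))⟩

theorem exists_step_algebra (D : Type u) [CommRing D] [Algebra A D] [Algebra.FinitePresentation A D]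
    (hD : Good r A D) (π : D →ₐ[A] B) (y : B) (hy : SqCubeOrPrime (π.range : Set B) y)
    (hr : r → SqCube (π.range : Set B) y) :
    ∃ (E : Type u) (_ : CommRing E) (_ : Algebra A E) (_ : Algebra.FinitePresentation A E)
      (π' : E →ₐ[A] B), Good r A E ∧ π.range ≤ π'.range ∧ y ∈ π'.range := by
  open Polynomial in
  suffices ∃ s : Finset D[X], (∀ p ∈ s, eval₂ π.toRingHom y p = 0) ∧
      SqCubeOrPrime ((algebraMap D (D[X] ⧸ Ideal.span (↑s : Set D[X]))).range :
          Set (D[X] ⧸ Ideal.span (↑s : Set D[X])))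
        (Ideal.Quotient.mk _ X) ∧
      (r → SqCube ((algebraMap D (D[X] ⧸ Ideal.span (↑s : Set D[X]))).range :
          Set (D[X] ⧸ Ideal.span (↑s : Set D[X])))
        (Ideal.Quotient.mk _ X)) by
    obtain ⟨s, hs, h1, h2⟩ := this
    let E := D[X] ⧸ Ideal.span (↑s : Set D[X])
    have : Algebra.FinitePresentation A E := Algebra.FinitePresentation.quotient ⟨s, rfl⟩
    let ev : D[X] →ₐ[A] B :=
      { Polynomial.eval₂RingHom π.toRingHom y with
        commutes' := fun a ↦ by simp [Polynomial.algebraMap_apply] }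
    have hev : ∀ a ∈ Ideal.span (↑s : Set D[X]), ev a = 0 :=
      fun a ha ↦ (Ideal.span_le (I := RingHom.ker ev)).mpr hs ha
    let π' : E →ₐ[A] B := Ideal.Quotient.liftₐ _ ev hev
    refine ⟨E, inferInstance, inferInstance, this, π', hD.trans ?_, ?_, ?_⟩
    · refine good_of_adjoin_singleton (Ideal.Quotient.mk _ X) ?_ h1 h2
      rw [show Ideal.Quotient.mk (Ideal.span (↑s : Set D[X])) X = Ideal.Quotient.mkₐ D _ X from rfl,
        ← Set.image_singleton, ← AlgHom.map_adjoin, Polynomial.adjoin_X, Algebra.map_top,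
        AlgHom.range_eq_top]
      exact Ideal.Quotient.mk_surjective
    · rintro _ ⟨d, rfl⟩
      exact ⟨Ideal.Quotient.mk _ (C d), Polynomial.eval₂_C ..⟩
    · exact ⟨Ideal.Quotient.mk _ X, Polynomial.eval₂_X ..⟩
  classical
  have hmk : ∀ {s : Finset D[X]} {p q : D[X]}, p - q ∈ s →
      Ideal.Quotient.mk (Ideal.span (↑s : Set D[X])) p =
        Ideal.Quotient.mk (Ideal.span (↑s : Set D[X])) q :=
    fun h ↦ Ideal.Quotient.eq.mpr (Ideal.subset_span h)
  by_cases hc : SqCube (π.range : Set B) y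
  · obtain ⟨⟨c, hc⟩, ⟨d, hd⟩⟩ := hc
    refine ⟨{X ^ 2 - C c, X ^ 3 - C d}, ?_, ?_⟩
    · simp only [Finset.mem_insert, Finset.mem_singleton]
      rintro p (rfl | rfl)
      · simpa [sub_eq_zero] using hc.symm
      · simpa [sub_eq_zero] using hd.symm
    · have h' : SqCube ((algebraMap D (D[X] ⧸ Ideal.span
          (↑({X ^ 2 - C c, X ^ 3 - C d} : Finset D[X]) : Set D[X]))).range :
          Set (D[X] ⧸ Ideal.span (↑({X ^ 2 - C c, X ^ 3 - C d} : Finset D[X]) : Set D[X])))
          (Ideal.Quotient.mk _ X) :=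
        ⟨⟨c, ((map_pow _ _ _).symm.trans (hmk (Finset.mem_insert_self _ _))).symm⟩,
          ⟨d, ((map_pow _ _ _).symm.trans (hmk (by simp))).symm⟩⟩
      exact ⟨Or.inl h', fun _ ↦ h'⟩
  · obtain hy | ⟨p, hp, ⟨c, hc'⟩, ⟨d, hd⟩⟩ := hy
    · exact absurd hy hc
    refine ⟨{(p : D[X]) * X - C c, X ^ p - C d}, ?_, Or.inr ⟨p, hp, ?_, ?_⟩, fun h ↦ absurd (hr h) hc⟩
    · simp only [Finset.mem_insert, Finset.mem_singleton]
      rintro q (rfl | rfl)
      · simpa [sub_eq_zero] using hc'.symm
      · simpa [sub_eq_zero] using hd.symm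
    · exact ⟨c, (((map_mul _ _ _).trans (by rw [map_natCast])).symm.trans
        (hmk (Finset.mem_insert_self _ _))).symm⟩
    · exact ⟨d, ((map_pow _ _ _).symm.trans (hmk (by simp))).symm⟩

theorem exists_tower_algebra {P : Set B → B → Prop} (hP : Finitary P)
    (h₁ : ∀ T b, P T b → SqCubeOrPrime T b) (h₂ : r → ∀ T b, P T b → SqCube T b)
    (l : List B) (hl : Valid A P l) :
    ∃ (D : Type u) (_ : CommRing D) (_ : Algebra A D) (_ : Algebra.FinitePresentation A D)
      (π : D →ₐ[A] B), Good r A D ∧ ∀ b ∈ l, b ∈ π.range := by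
  induction l using List.reverseRecOn with
  | nil => exact ⟨A, inferInstance, inferInstance, inferInstance, Algebra.ofId A B, good_self r,
      by simp⟩
  | append_singleton l y ih =>
    have hl' : Valid A P l := fun i hi ↦ by
      have := hl i (by simp; omega)
      rwa [List.getElem_append_left hi, List.take_append_of_le_length hi.le] at this
    obtain ⟨D, _, _, _, π, hD, hπ⟩ := ih hl'
    have hy : P (π.range : Set B) y := by
      have := hl l.length (by simp)
      rw [List.getElem_append_right le_rfl, List.take_left] at this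
      simp only [Nat.sub_self, List.getElem_cons_zero] at this
      exact hP.mono (Algebra.adjoin_le hπ) this
    obtain ⟨E, i1, i2, i3, π', hE, hle, hy'⟩ :=
      exists_step_algebra D hD π y (h₁ _ _ hy) (fun h ↦ h₂ h _ _ hy)
    refine ⟨E, i1, i2, i3, π', hE, fun b hb ↦ ?_⟩
    rcases List.mem_append.mp hb with hb | hb
    · exact hle (hπ b hb)
    · rw [List.mem_singleton.mp hb]; exact hy'

/-- Finitely presented algebras over `B` map to good ones. -/
theorem exists_good (hB : Good r A B) (C : Type u) [CommRing C] [Algebra A C]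
    [Algebra.FinitePresentation A C] (ρ : C →ₐ[A] B) :
    ∃ (D : Type u) (_ : CommRing D) (_ : Algebra A D) (_ : Algebra.FinitePresentation A D)
      (π : D →ₐ[A] B) (g : C →ₐ[A] D), Good r A D ∧ π.comp g = ρ := by
  classical
  obtain ⟨n, f, hf, hker⟩ := Algebra.FinitePresentation.out (R := A) (A := C)
  have := hB.1
  obtain ⟨D, _, _, _, π, hD, hrange⟩ : ∃ (D : Type u) (_ : CommRing D) (_ : Algebra A D)
      (_ : Algebra.FinitePresentation A D) (π : D →ₐ[A] B),
      Good r A D ∧ ∀ i, ρ (f (MvPolynomial.X i)) ∈ π.range := by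
    let F : Finset B := Finset.univ.image fun i ↦ ρ (f (MvPolynomial.X i))
    have main : ∀ {P : Set B → B → Prop}, Finitary P → (∀ T b, P T b → SqCubeOrPrime T b) →
        (r → ∀ T b, P T b → SqCube T b) →
        (∀ C : Subalgebra A B, C ≠ ⊤ → ∃ y, y ∉ C ∧ P (C : Set B) y) →
        ∃ (D : Type u) (_ : CommRing D) (_ : Algebra A D)
        (_ : Algebra.FinitePresentation A D) (π : D →ₐ[A] B),
        Good r A D ∧ ∀ i, ρ (f (MvPolynomial.X i)) ∈ π.range := by
      intro P hP h₁ h₂ hstep
      obtain ⟨l, hl, hv⟩ := exists_valid hP hstep F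
      obtain ⟨D, i1, i2, i3, π, hD, hπ⟩ := exists_tower_algebra (r := r) hP h₁ h₂ l hv
      exact ⟨D, i1, i2, i3, π, hD, fun i ↦ Algebra.adjoin_le hπ (hl
        (Finset.mem_image.mpr ⟨i, Finset.mem_univ _, rfl⟩))⟩
    by_cases hr : r
    · exact main finitary_sqCube (fun _ _ ↦ Or.inl) (fun _ _ _ h ↦ h)
        (exists_step_sqCube hB.2.1 (hB.2.2 hr))
    · exact main finitary_sqCubeOrPrime (fun _ _ h ↦ h) (fun h ↦ absurd h hr)
        (exists_step_sqCubeOrPrime hB.2.1)
  choose d hd using hrange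
  let g₀ : MvPolynomial (Fin n) A →ₐ[A] D := MvPolynomial.aeval d
  have hg₀ : π.comp g₀ = ρ.comp f := MvPolynomial.algHom_ext fun i ↦ by
    simpa [g₀] using hd i
  let J : Ideal D := (RingHom.ker f.toRingHom).map g₀
  have hJ : J.FG := hker.map _
  have hπJ : ∀ a ∈ J, π a = 0 := fun a ha ↦ by
    refine (Ideal.map_le_iff_le_comap (K := RingHom.ker π.toRingHom)).mpr (fun x hx ↦ ?_) ha
    rw [Ideal.mem_comap, RingHom.mem_ker]
    exact (DFunLike.congr_fun hg₀ x).trans (by
      show ρ (f x) = 0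
      rw [show f x = 0 from hx, map_zero])
  have : Algebra.FinitePresentation A (D ⧸ J) := Algebra.FinitePresentation.quotient hJ
  let g : C →ₐ[A] D ⧸ J := AlgHom.liftOfSurjective f hf ((Ideal.Quotient.mkₐ A J).comp g₀)
    fun x hx ↦ Ideal.Quotient.eq_zero_iff_mem.mpr (Ideal.mem_map_of_mem _ hx)
  refine ⟨D ⧸ J, inferInstance, inferInstance, this, Ideal.Quotient.liftₐ J π hπJ, g,
    hD.of_surjective (Ideal.Quotient.mkₐ A J) Ideal.Quotient.mk_surjective, ?_⟩
  refine AlgHom.cancel_right hf |>.mp ?_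
  rw [AlgHom.comp_assoc, AlgHom.liftOfSurjective_comp, ← hg₀]
  ext x; simp

/-- The index category. -/
structure Idx (r : Prop) (A B : Type u) [CommRing A] [CommRing B] [Algebra A B] : Type u where
  n : ℕ
  I : Ideal (MvPolynomial (Fin n) A)
  fg : I.FG
  hom : (MvPolynomial (Fin n) A ⧸ I) →ₐ[A] B
  good : Good r A (MvPolynomial (Fin n) A ⧸ I)

namespace Idx

/-- The algebra of an index. -/
abbrev alg (i : Idx r A B) : Type u := MvPolynomial (Fin i.n) A ⧸ i.I

instance (i : Idx r A B) : Algebra.FinitePresentation A i.alg :=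
  Algebra.FinitePresentation.quotient i.fg

noncomputable instance : SmallCategory (Idx r A B) where
  Hom i j := {f : i.alg →ₐ[A] j.alg // j.hom.comp f = i.hom}
  id i := ⟨AlgHom.id A _, AlgHom.comp_id _⟩
  comp f g := ⟨g.1.comp f.1, by rw [← AlgHom.comp_assoc, g.2, f.2]⟩
  id_comp f := Subtype.ext (AlgHom.comp_id f.1)
  comp_id f := Subtype.ext (AlgHom.id_comp f.1)
  assoc f g h := Subtype.ext (AlgHom.comp_assoc h.1 g.1 f.1).symm

theorem exists_of_good (D : Type u) [CommRing D] [Algebra A D] [Algebra.FinitePresentation A D]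
    (hD : Good r A D) (π : D →ₐ[A] B) :
    ∃ (j : Idx r A B) (e : D ≃ₐ[A] j.alg), j.hom.comp e.toAlgHom = π := by
  obtain ⟨n, f, hf, hker⟩ := Algebra.FinitePresentation.out (R := A) (A := D)
  let e : (MvPolynomial (Fin n) A ⧸ RingHom.ker f.toRingHom) ≃ₐ[A] D :=
    Ideal.quotientKerAlgEquivOfSurjective hf
  refine ⟨⟨n, RingHom.ker f.toRingHom, hker, π.comp e.toAlgHom,
    hD.of_surjective e.symm.toAlgHom e.symm.surjective⟩, e.symm, ?_⟩
  ext x
  exact congr_arg π (e.apply_symm_apply x)

theorem exists_from (hB : Good r A B) (C : Type u) [CommRing C] [Algebra A C]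
    [Algebra.FinitePresentation A C] (ρ : C →ₐ[A] B) :
    ∃ (j : Idx r A B) (g : C →ₐ[A] j.alg), j.hom.comp g = ρ := by
  obtain ⟨D, _, _, _, π, g, hD, hg⟩ := TowerLib.exists_good hB C ρ
  obtain ⟨j, e, he⟩ := exists_of_good D hD π
  exact ⟨j, e.toAlgHom.comp g, by rw [← AlgHom.comp_assoc, he, hg]⟩

theorem exists_sup (hB : Good r A B) (i j : Idx r A B) : ∃ (k : Idx r A B) (_ : i ⟶ k) (_ : j ⟶ k), True := by
  have : Algebra.FinitePresentation A (i.alg ⊗[A] j.alg) :=
    Algebra.FinitePresentation.trans A i.alg (i.alg ⊗[A] j.alg)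
  obtain ⟨k, g, hg⟩ := exists_from hB (i.alg ⊗[A] j.alg)
    (Algebra.TensorProduct.lift i.hom j.hom fun _ _ ↦ Commute.all _ _)
  exact ⟨k, ⟨g.comp Algebra.TensorProduct.includeLeft, by
    rw [← AlgHom.comp_assoc, hg, Algebra.TensorProduct.lift_comp_includeLeft]⟩,
    ⟨g.comp Algebra.TensorProduct.includeRight, by
    rw [← AlgHom.comp_assoc, hg]; ext x; simp⟩, trivial⟩

theorem exists_coeq {i : Idx r A B} (F : Finset (i.alg × i.alg))
    (hF : ∀ p ∈ F, i.hom p.1 = i.hom p.2) :
    ∃ (k : Idx r A B) (f : i ⟶ k), ∀ p ∈ F, f.1 p.1 = f.1 p.2 := by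
  classical
  let J : Ideal i.alg := Ideal.span (↑(F.image fun p ↦ p.1 - p.2) : Set i.alg)
  have hJ : ∀ a ∈ J, i.hom a = 0 := fun a ha ↦ by
    refine (Ideal.span_le (I := RingHom.ker i.hom.toRingHom)).mpr ?_ ha
    simp only [Finset.coe_image, Set.image_subset_iff]
    intro p hp
    simp [hF p hp]
  have : Algebra.FinitePresentation A (i.alg ⧸ J) := Algebra.FinitePresentation.quotient ⟨_, rfl⟩
  obtain ⟨k, e, he⟩ := exists_of_good (i.alg ⧸ J)
    (i.good.of_surjective (Ideal.Quotient.mkₐ A J) Ideal.Quotient.mk_surjective)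
    (Ideal.Quotient.liftₐ J i.hom hJ)
  refine ⟨k, ⟨e.toAlgHom.comp (Ideal.Quotient.mkₐ A J), by
    rw [← AlgHom.comp_assoc, he]; ext x; simp⟩, fun p hp ↦ congr_arg e ?_⟩
  exact Ideal.Quotient.eq.mpr (Ideal.subset_span (Finset.mem_image_of_mem _ hp))

theorem isFiltered (hB : Good r A B) : IsFiltered (Idx r A B) where
  cocone_objs i j := by
    obtain ⟨k, f, g, -⟩ := exists_sup hB i j
    exact ⟨k, f, g, trivial⟩
  cocone_maps i j f g := by
    classical
    obtain ⟨k, h, hk⟩ := exists_coeq (i := j) (Finset.univ.image fun t ↦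
        (f.1 (Ideal.Quotient.mk i.I (MvPolynomial.X t)),
          g.1 (Ideal.Quotient.mk i.I (MvPolynomial.X t)))) (fun p hp ↦ by
      obtain ⟨t, -, rfl⟩ := Finset.mem_image.mp hp
      exact (DFunLike.congr_fun f.2 _).trans (DFunLike.congr_fun g.2 _).symm)
    exact ⟨k, h, Subtype.ext (Ideal.Quotient.algHom_ext _ (MvPolynomial.algHom_ext fun t ↦
      hk _ (Finset.mem_image_of_mem _ (Finset.mem_univ t))))⟩
  nonempty := (exists_from hB A (Algebra.ofId A B)).nonempty

/-- The diagram. -/
noncomputable def diagram (r : Prop) (A B : Type u) [CommRing A] [CommRing B] [Algebra A B] :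
    Idx r A B ⥤ Under (CommRingCat.of A) where
  obj i := CommRingCat.mkUnder (CommRingCat.of A) i.alg
  map f := f.1.toUnder

/-- The cocone with point `B`. -/
noncomputable def cocone (r : Prop) (A B : Type u) [CommRing A] [CommRing B] [Algebra A B] :
    Limits.Cocone (diagram r A B) where
  pt := CommRingCat.mkUnder (CommRingCat.of A) B
  ι :=
    { app := fun i ↦ i.hom.toUnder
      naturality := fun i j f ↦ by
        apply CommRingCat.mkUnder_ext
        intro a
        exact DFunLike.congr_fun f.2 a }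

/-- The component of a cocone, as a ring map. -/
noncomputable def component (s : Limits.Cocone (diagram r A B)) (i : Idx r A B) :
    i.alg →+* s.pt.right :=
  (s.ι.app i).right.hom

theorem component_algebraMap (s : Limits.Cocone (diagram r A B)) (i : Idx r A B) (a : A) :
    component s i (algebraMap A i.alg a) = s.pt.hom a :=
  RingHom.congr_fun (congr_arg CommRingCat.Hom.hom (Under.w (s.ι.app i))) a

/-- `B` is the colimit of the good algebras. -/
noncomputable def isColimit (hB : Good r A B) : Limits.IsColimit (cocone r A B) := by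
  have hsurj : ∀ b : B, ∃ (i : Idx r A B) (x : i.alg), i.hom x = b := fun b ↦ by
    obtain ⟨j, g, hg⟩ := exists_from hB (Polynomial A) (Polynomial.aeval b)
    exact ⟨j, g Polynomial.X, (DFunLike.congr_fun hg _).trans (Polynomial.aeval_X b)⟩
  choose idx elt helt using hsurj
  have key : ∀ (s : Limits.Cocone (diagram r A B)) {i j : Idx r A B} (x : i.alg) (y : j.alg),
      i.hom x = j.hom y →
      component s i x = component s j y := by
    intro s i j x y hxy
    obtain ⟨k, f, g, -⟩ := exists_sup hB i j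
    obtain ⟨k', h, hk⟩ := exists_coeq (i := k) {(f.1 x, g.1 y)} (fun p hp ↦ by
      rw [Finset.mem_singleton] at hp; subst hp
      exact ((DFunLike.congr_fun f.2 x).trans hxy).trans (DFunLike.congr_fun g.2 y).symm)
    have h0 := hk _ (Finset.mem_singleton_self _)
    have e : ∀ {i : Idx r A B} (f : i ⟶ k') (x : i.alg), component s i x = component s k' (f.1 x) :=
      fun f x ↦ (RingHom.congr_fun
        (congr_arg (fun t ↦ CommRingCat.Hom.hom t.right) (s.w f)) x).symm
    rw [e (f ≫ h) x, e (g ≫ h) y]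
    exact congr_arg (component s k') h0
  refine
    { desc := fun s ↦ Under.homMk (CommRingCat.ofHom
        { toFun := fun b ↦ component s (idx b) (elt b)
          map_one' := (key s (j := idx 1) _ 1 (by rw [helt, map_one])).trans (map_one _)
          map_zero' := (key s (j := idx 0) _ 0 (by rw [helt, map_zero])).trans (map_zero _)
          map_add' := fun a b ↦ ?_
          map_mul' := fun a b ↦ ?_ }) ?_
      fac := fun s i ↦ ?_
      uniq := fun s m hm ↦ ?_ }
  · obtain ⟨k, f, g, -⟩ := exists_sup hB (idx a) (idx b)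
    rw [key s (elt (a * b)) (f.1 (elt a) * g.1 (elt b)) ?_, map_mul,
      key s (elt a) (f.1 (elt a)) (DFunLike.congr_fun f.2 _).symm,
      key s (elt b) (g.1 (elt b)) (DFunLike.congr_fun g.2 _).symm]
    rw [helt, map_mul, show k.hom (f.1 (elt a)) = a from (DFunLike.congr_fun f.2 _).trans (helt a),
      show k.hom (g.1 (elt b)) = b from (DFunLike.congr_fun g.2 _).trans (helt b)]
  · obtain ⟨k, f, g, -⟩ := exists_sup hB (idx a) (idx b)
    rw [key s (elt (a + b)) (f.1 (elt a) + g.1 (elt b)) ?_, map_add,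
      key s (elt a) (f.1 (elt a)) (DFunLike.congr_fun f.2 _).symm,
      key s (elt b) (g.1 (elt b)) (DFunLike.congr_fun g.2 _).symm]
    rw [helt, map_add, show k.hom (f.1 (elt a)) = a from (DFunLike.congr_fun f.2 _).trans (helt a),
      show k.hom (g.1 (elt b)) = b from (DFunLike.congr_fun g.2 _).trans (helt b)]
  · ext a
    exact (key s _ (algebraMap A (idx (algebraMap A B a)).alg a)
      ((helt _).trans (AlgHom.commutes _ a).symm)).trans (component_algebraMap s _ a)
  · apply CommRingCat.mkUnder_ext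
    intro x
    exact key s _ x (helt _)
  · apply CommRingCat.mkUnder_ext
    intro b
    exact (congr_arg m.right (helt b).symm).trans (RingHom.congr_fun
      (congr_arg (fun t ↦ CommRingCat.Hom.hom t.right) (hm (idx b))) (elt b))

end Idx

theorem good_of_isUnivHomeo
    (h : FlatMor.IsUnivHomeo (Spec.map (CommRingCat.ofHom (algebraMap A B))))
    (hr : r → ∀ x : Spec (CommRingCat.of B), Function.Surjective
      ((Spec.map (CommRingCat.ofHom (algebraMap A B))).residueFieldMap x)) : Good r A B := by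
  obtain ⟨h1, h2, -⟩ := (Groth.Agent.S0415.result _).mp h
  refine ⟨algebraMap_isIntegral_iff.mp ?_, homInj_iff_universallyInjective.mp h2,
    fun h ↦ residueFieldMap_surjective_iff.mp (hr h)⟩
  exact IsIntegralHom.SpecMap_iff.mp h1

theorem isUnivHomeo_of_good {D : Type u} [CommRing D] [Algebra A D] (hD : Good r A D)
    (π : D →ₐ[A] B) (hB : Surjective (Spec.map (CommRingCat.ofHom (algebraMap A B)))) :
    FlatMor.IsUnivHomeo (Spec.map (CommRingCat.ofHom (algebraMap A D))) := by
  refine (Groth.Agent.S0415.result _).mpr ⟨IsIntegralHom.SpecMap_iff.mpr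
    (algebraMap_isIntegral_iff.mpr hD.1), homInj_iff_universallyInjective.mpr hD.2.1, ?_⟩
  have e : Spec.map (CommRingCat.ofHom π.toRingHom) ≫
      Spec.map (CommRingCat.ofHom (algebraMap A D)) =
        Spec.map (CommRingCat.ofHom (algebraMap A B)) := by
    rw [← Spec.map_comp, ← CommRingCat.ofHom_comp]
    exact congr_arg (fun f ↦ Spec.map (CommRingCat.ofHom f)) π.comp_algebraMap
  rw [← e] at hB
  exact Surjective.of_comp (Spec.map (CommRingCat.ofHom π.toRingHom)) _

end TowerLib
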