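import Mathlib

/-! Elementary extensions detecting universal homeomorphisms. -/

set_option autoImplicit false
universe u

namespace TowerLib

/-- Ring maps to fields which agree on `A` are equal. -/
def HomInj (A B : Type u) [CommRing A] [CommRing B] [Algebra A B] : Prop :=
  ∀ (K : Type u) [Field K] (φ ψ : B →+* K),
    φ.comp (algebraMap A B) = ψ.comp (algebraMap A B) → φ = ψ

/-- All residue field extensions are trivial. -/
def ResSurj (A B : Type u) [CommRing A] [CommRing B] [Algebra A B] : Prop :=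
  ∀ (q : Ideal B), q.IsPrime → ∀ b : B,
    ∃ a s : A, algebraMap A B s ∉ q ∧ algebraMap A B s * b - algebraMap A B a ∈ q

/-- A step of square-cube type. -/
def SqCube {B : Type u} [CommRing B] (T : Set B) (b : B) : Prop := b ^ 2 ∈ T ∧ b ^ 3 ∈ T

/-- A step of square-cube or prime type. -/
def SqCubeOrPrime {B : Type u} [CommRing B] (T : Set B) (b : B) : Prop :=
  SqCube T b ∨ ∃ p : ℕ, p.Prime ∧ (p : B) * b ∈ T ∧ b ^ p ∈ T

section Finite

variable {A B : Type u} [CommRing A] [CommRing B] [Algebra A B] [Module.Finite A B]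

/-- The conductor. -/
def conductor' (A B : Type u) [CommRing A] [CommRing B] [Algebra A B] : Ideal B where
  carrier := {y | ∀ b, y * b ∈ (algebraMap A B).range}
  zero_mem' b := by rw [zero_mul]; exact zero_mem _
  add_mem' hx hy b := by rw [add_mul]; exact add_mem (hx b) (hy b)
  smul_mem' c y hy b := by rw [smul_eq_mul, mul_comm c y, mul_assoc]; exact hy _

theorem eq_of_over (h : HomInj A B) (p : Ideal A) [p.IsPrime] (q q' : Ideal B) [q.IsPrime]
    [q'.IsPrime] [q.LiesOver p] [q'.LiesOver p] : q = q' := by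
  let K := AlgebraicClosure p.ResidueField
  let _ := Localization.AtPrime.algebraOfLiesOver p q
  have : Localization.AtPrime.IsLiesOverAlgebra p q := ⟨rfl⟩
  let _ := Localization.AtPrime.algebraOfLiesOver p q'
  have : Localization.AtPrime.IsLiesOverAlgebra p q' := ⟨rfl⟩
  have : Algebra.IsAlgebraic p.ResidueField q.ResidueField := inferInstance
  have : Algebra.IsAlgebraic p.ResidueField q'.ResidueField := inferInstance
  let φ : q.ResidueField →ₐ[p.ResidueField] K := IsAlgClosed.lift
  let ψ : q'.ResidueField →ₐ[p.ResidueField] K := IsAlgClosed.lift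
  have := h K (φ.toRingHom.comp (algebraMap B q.ResidueField))
    (ψ.toRingHom.comp (algebraMap B q'.ResidueField)) (RingHom.ext fun a ↦ by
      simp [← IsScalarTower.algebraMap_apply A B, IsScalarTower.algebraMap_apply A p.ResidueField
        q.ResidueField, IsScalarTower.algebraMap_apply A p.ResidueField q'.ResidueField])
  ext x
  rw [← Ideal.algebraMap_residueField_eq_zero (I := q),
    ← Ideal.algebraMap_residueField_eq_zero (I := q'),
    ← map_eq_zero_iff φ φ.toRingHom.injective, ← map_eq_zero_iff ψ ψ.toRingHom.injective]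
  exact Eq.congr_left (RingHom.congr_fun this x)

theorem exists_step_aux (h : HomInj A B) (hne : ¬Function.Surjective (algebraMap A B))
    (hinj : Function.Injective (algebraMap A B)) :
    ∃ (p : Ideal A) (_ : p.IsPrime) (q : Ideal B) (_ : q.IsPrime) (_ : q.LiesOver p),
      (∃ y, y ∉ (algebraMap A B).range ∧ SqCube (algebraMap A B).range y) ∨
      ((∀ x ∈ q, ∃ s ∉ p, algebraMap A B s * x ∈ (algebraMap A B).range) ∧
        ∃ b, ∀ s ∉ p, algebraMap A B s * b ∉ (algebraMap A B).range) := by
  classical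
  let CB := conductor' A B
  let c := CB.comap (algebraMap A B)
  have hc : c ≠ ⊤ := fun htop ↦ hne fun b ↦ by
    obtain ⟨a, ha⟩ := (show (1 : A) ∈ c from htop ▸ trivial) b
    exact ⟨a, by rw [ha, map_one, one_mul]⟩
  obtain ⟨p, hp⟩ := Ideal.nonempty_minimalPrimes hc
  haveI := hp.1.1
  have : Algebra.IsIntegral A B := inferInstance
  obtain ⟨q, -, hq, hqp⟩ := Ideal.exists_ideal_over_prime_of_isIntegral p (⊥ : Ideal B)
    (fun a ha ↦ by
      rw [hinj (show algebraMap A B a = algebraMap A B 0 by simpa using ha)]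
      exact p.zero_mem)
  haveI : q.LiesOver p := ⟨hqp.symm⟩
  refine ⟨p, inferInstance, q, hq, inferInstance, ?_⟩
  have hnil : ∀ x ∈ q, ∃ t ∉ p, ∃ n, algebraMap A B t * x ^ n ∈ CB := by
    intro x hx
    by_contra! hall
    let S : Submonoid B := (p.primeCompl.map (algebraMap A B)) ⊔ Submonoid.powers x
    obtain ⟨Q, hQ, hle, hdis⟩ := Ideal.exists_le_prime_disjoint CB S (Set.disjoint_left.mpr
      fun y hy hyS ↦ by
        obtain ⟨_, ⟨t, ht, rfl⟩, _, ⟨n, rfl⟩, rfl⟩ := Submonoid.mem_sup.mp hyS
        exact hall t ht n hy)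
    have hQp : Q.comap (algebraMap A B) = p := by
      have h1 : Q.comap (algebraMap A B) ≤ p := fun a ha ↦ by
        by_contra hap
        exact Set.disjoint_left.mp hdis ha (Submonoid.mem_sup_left ⟨a, hap, rfl⟩)
      exact le_antisymm h1 (hp.2 ⟨inferInstance, Ideal.comap_mono hle⟩ h1)
    haveI : Q.LiesOver p := ⟨hQp.symm⟩
    have := eq_of_over h p Q q
    exact Set.disjoint_left.mp hdis (show x ∈ Q from this ▸ hx)
      (Submonoid.mem_sup_right ⟨1, pow_one x⟩)
  by_cases hcase : ∀ x ∈ q, ∃ s ∉ p, algebraMap A B s * x ∈ (algebraMap A B).range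
  · refine Or.inr ⟨hcase, ?_⟩
    by_contra! hall
    obtain ⟨gen, hgen⟩ := Module.Finite.fg_top (R := A) (M := B)
    choose s hs hsr using hall
    have hprod : (∏ g ∈ gen, s g) ∈ c := by
      intro b
      have hb : b ∈ Submodule.span A (gen : Set B) := hgen ▸ trivial
      obtain ⟨a, -, rfl⟩ := Submodule.mem_span_finset.mp hb
      rw [Finset.mul_sum]
      refine sum_mem fun g hg ↦ ?_
      rw [← Finset.mul_prod_erase gen s hg, map_mul, Algebra.smul_def]
      rw [show algebraMap A B (s g) * algebraMap A B (∏ i ∈ gen.erase g, s i) *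
        (algebraMap A B (a g) * g) = (algebraMap A B (s g) * g) *
          algebraMap A B ((∏ i ∈ gen.erase g, s i) * a g) by rw [map_mul]; ring]
      exact mul_mem (hsr g) ⟨_, rfl⟩
    obtain ⟨g, hg, hgp⟩ := Ideal.IsPrime.prod_mem_iff.mp (hp.1.2 hprod)
    exact hs g hgp
  · push Not at hcase
    obtain ⟨x, hxq, hx⟩ := hcase
    obtain ⟨t, ht, n, hn⟩ := hnil x hxq
    let z := algebraMap A B t * x
    let P : ℕ → Prop := fun k ↦ z ^ k ∉ (algebraMap A B).range
    have hbig : ∀ k, n + 1 ≤ k → z ^ k ∈ (algebraMap A B).range := by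
      intro k hk
      obtain ⟨m, rfl⟩ := Nat.exists_eq_add_of_le hk
      have := hn (algebraMap A B t ^ (n + m) * x ^ (m + 1))
      convert this using 1
      simp only [z]; ring
    have h1 : P 1 := by
      show z ^ 1 ∉ _
      rw [pow_one]; exact hx t ht
    let k := Nat.findGreatest P n.succ
    have hk : P k := Nat.findGreatest_spec (P := P) (Nat.succ_pos n) h1
    have hk1 : 1 ≤ k := Nat.le_findGreatest (Nat.succ_pos n) h1
    have hgt : ∀ j, k < j → z ^ j ∈ (algebraMap A B).range := by
      intro j hj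
      by_contra hj'
      rcases le_or_gt j n.succ with h | h
      · exact absurd (Nat.le_findGreatest (P := P) h hj') (not_le.mpr hj)
      · exact hj' (hbig j h.le)
    refine Or.inl ⟨z ^ k, hk, ?_, ?_⟩ <;> rw [← pow_mul] <;> exact hgt _ (by omega)

/-- Finite nontrivial extensions with unique lifts and trivial residue extensions have square-cube
elements. -/
theorem exists_sqCube (h : HomInj A B) (hr : ResSurj A B)
    (hne : ¬Function.Surjective (algebraMap A B)) (hinj : Function.Injective (algebraMap A B)) :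
    ∃ y, y ∉ (algebraMap A B).range ∧ SqCube (algebraMap A B).range y := by
  obtain ⟨p, _, q, _, _, hy | ⟨hq, b, hb⟩⟩ := exists_step_aux h hne hinj
  · exact hy
  obtain ⟨a, s, hs, hsa⟩ := hr q inferInstance b
  obtain ⟨t, ht, htr⟩ := hq _ hsa
  rw [mul_sub, ← map_mul] at htr
  refine absurd ?_ (hb (t * s) fun hts ↦ ?_)
  · have := add_mem htr ⟨t * a, rfl⟩
    rwa [sub_add_cancel, ← mul_assoc, ← map_mul] at this
  · rcases Ideal.IsPrime.mem_or_mem inferInstance hts with h' | h'
    · exact ht h'
    · exact hs ((Ideal.mem_of_liesOver q p s).mp h')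

/-- Finite nontrivial extensions with unique lifts have square-cube or prime elements. -/
theorem exists_sqCubeOrPrime (h : HomInj A B)
    (hne : ¬Function.Surjective (algebraMap A B)) (hinj : Function.Injective (algebraMap A B)) :
    ∃ y, y ∉ (algebraMap A B).range ∧ SqCubeOrPrime (algebraMap A B).range y := by
  classical
  obtain ⟨p, _, q, _, _, ⟨y, hy, hy'⟩ | ⟨hq, b, hb⟩⟩ := exists_step_aux h hne hinj
  · exact ⟨y, hy, Or.inl hy'⟩
  let k := p.ResidueField
  let L := q.ResidueField
  let _ := Localization.AtPrime.algebraOfLiesOver p q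
  have : Localization.AtPrime.IsLiesOverAlgebra p q := ⟨rfl⟩
  let π : B →+* L := algebraMap B L
  have hker : ∀ x, π x = 0 ↔ x ∈ q := fun x ↦ Ideal.algebraMap_residueField_eq_zero
  have hA : ∀ a, π (algebraMap A B a) = algebraMap k L (algebraMap A k a) := fun a ↦ by
    rw [← IsScalarTower.algebraMap_apply, ← IsScalarTower.algebraMap_apply]
  -- elements with residue in `κ(p)` land in `A` after multiplication
  have hres : ∀ x, π x ∈ (algebraMap k L).range →
      ∃ s ∉ p, algebraMap A B s * x ∈ (algebraMap A B).range := by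
    rintro x ⟨e, he⟩
    obtain ⟨a1, s1, hs1, rfl⟩ := IsFractionRing.div_surjective (A := A ⧸ p) e
    obtain ⟨a, rfl⟩ := Ideal.Quotient.mk_surjective a1
    obtain ⟨s, rfl⟩ := Ideal.Quotient.mk_surjective s1
    have hs : s ∉ p := fun hsp ↦ nonZeroDivisors.ne_zero hs1 (Ideal.Quotient.eq_zero_iff_mem.mpr hsp)
    have hs' : algebraMap A k s ≠ 0 := fun h0 ↦ hs (Ideal.algebraMap_residueField_eq_zero.mp h0)
    have hsa : algebraMap A B s * x - algebraMap A B a ∈ q := by
      rw [← hker, map_sub, map_mul, hA, hA, ← he, ← map_mul, ← map_sub, sub_eq_zero.mpr, map_zero]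
      rw [show algebraMap (A ⧸ p) k (Ideal.Quotient.mk p a) = algebraMap A k a from rfl,
        show algebraMap (A ⧸ p) k (Ideal.Quotient.mk p s) = algebraMap A k s from rfl]
      exact mul_div_cancel₀ _ hs'
    obtain ⟨t, ht, htr⟩ := hq _ hsa
    refine ⟨t * s, fun hts ↦ (Ideal.IsPrime.mem_or_mem inferInstance hts).elim ht hs, ?_⟩
    have := add_mem htr ⟨t * a, rfl⟩
    rwa [mul_sub, ← map_mul, sub_add_cancel, ← mul_assoc, ← map_mul] at this
  have hbr : π b ∉ (algebraMap k L).range := fun hm ↦ by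
    obtain ⟨s, hs, hsr⟩ := hres b hm
    exact hb s hs hsr
  have : Algebra.IsAlgebraic k L := inferInstance
  have hpi : IsPurelyInseparable k L := by
    rw [isPurelyInseparable_iff_subsingleton_emb (F := k) (E := L)]
    refine ⟨fun σ τ ↦ AlgHom.coe_ringHom_injective ?_⟩
    refine IsLocalization.ringHom_ext (nonZeroDivisors (B ⧸ q)) (Ideal.Quotient.ringHom_ext ?_)
    exact h _ _ _ (RingHom.ext fun a ↦ by
      show σ (π (algebraMap A B a)) = τ (π (algebraMap A B a))
      rw [hA, AlgHom.commutes, AlgHom.commutes])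
  let ℓ := ringExpChar k
  obtain ⟨n, hn⟩ := IsPurelyInseparable.pow_mem k ℓ (π b)
  let P : ℕ → Prop := fun m ↦ π b ^ ℓ ^ m ∈ (algebraMap k L).range
  have hP : ∃ m, P m := ⟨n, hn⟩
  obtain ⟨m, hm⟩ : ∃ m, Nat.find hP = m + 1 := Nat.exists_eq_succ_of_ne_zero fun h0 ↦
    hbr (by
      have := Nat.find_spec hP
      rw [h0] at this
      simpa only [P, pow_zero, pow_one] using this)
  let b' := b ^ ℓ ^ m
  have hb1 : π b' ∉ (algebraMap k L).range := by
    rw [map_pow]; exact Nat.find_min hP (by omega)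
  have hb2 : π (b' ^ ℓ) ∈ (algebraMap k L).range := by
    rw [map_pow, map_pow, ← pow_mul, ← pow_succ, ← hm]; exact Nat.find_spec hP
  have hℓ : ℓ.Prime := by
    rcases expChar_is_prime_or_one k ℓ with h' | h'
    · exact h'
    · rw [h', pow_one] at hb2; exact absurd hb2 hb1
  have : CharP k ℓ := by
    obtain ⟨p', hp'⟩ := CharP.exists k
    rcases CharP.char_is_prime_or_zero k p' with h' | h'
    · rwa [← (char_eq_expChar_iff k p' ℓ).mpr h']
    · subst h'
      have := CharP.charP_to_charZero k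
      exact absurd (expChar_one_of_char_zero k ℓ) hℓ.ne_one
  obtain ⟨u, hu, hur⟩ := hres _ hb2
  obtain ⟨v, hv, hvr⟩ := hq ((ℓ : B) * b') (by
    rw [← hker, map_mul, map_natCast, ← map_natCast (algebraMap k L), CharP.cast_eq_zero, map_zero,
      zero_mul])
  have huv : u * v ∉ p := fun h' ↦ (Ideal.IsPrime.mem_or_mem inferInstance h').elim hu hv
  refine ⟨algebraMap A B (u * v) * b', fun hy ↦ hb1 ?_, Or.inr ⟨ℓ, hℓ, ?_, ?_⟩⟩
  · obtain ⟨a, ha⟩ := hy
    refine ⟨algebraMap A k a / algebraMap A k (u * v), ?_⟩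
    rw [map_div₀, div_eq_iff (fun h0 ↦ huv (Ideal.algebraMap_residueField_eq_zero.mp
      ((map_eq_zero_iff _ (algebraMap k L).injective).mp h0))), ← hA, ← hA, ha, map_mul, mul_comm]
  · have := mul_mem hvr ⟨u, rfl⟩
    show _ ∈ (algebraMap A B).range
    convert this using 1
    rw [map_mul]; ring
  · have := mul_mem hur ⟨u ^ (ℓ - 1) * v ^ ℓ, rfl⟩
    show _ ∈ (algebraMap A B).range
    convert this using 1
    obtain ⟨j, hj⟩ := Nat.exists_eq_succ_of_ne_zero hℓ.ne_zero
    rw [hj, Nat.succ_sub_one]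
    simp only [map_mul, map_pow, Nat.succ_eq_add_one]
    ring

end Finite

end TowerLib
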